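import Cfsg.Agent.H967.Sph.Oper

/-!
# The spherical machine: the number of elements of a given state (helper967)
-/

set_option autoImplicit false
set_option linter.unusedSectionVars false

namespace Cfsg.Agent.H967.Sph

open CoxeterSystem Cfsg.Agent.ChevalleyStructure.CoxeterGeom Cfsg.Agent.Tits.Roots Cfsg.Agent.Tits.Core
  Cfsg.Agent.Tits.Exchange Cfsg.Agent.Nodes.Reps Cfsg.Agent.Nodes.BNOf Cfsg.Agent.Nodes.Bruhat
  Cfsg.Agent.Nodes.LeviDec

variable {I W Y : Type*} [Fintype I] [DecidableEq I] [Group W] [Finite W] [Group Y] {M : CoxeterMatrix I}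
  {cs : CoxeterSystem M W} {A : I → I → ℤ} {h : IsCartan M A} {p : ℕ} {T : Subgroup Y} {n : I → Y}
  {X : (I → ℤ) → Subgroup Y} (R : RGD cs h p T n X) (hG : GG cs h T X = ⊤) {j : I} {N m : ℕ} (t : Tab A j N m)

/-- the elements of state `o` are the elements of the parabolic subgroup -/
theorem stY_eq_o_iff {g : Y} : stY R hG t g = t.o ↔ g ∈ PJ cs h T X {i | i ≠ j} := by
  rw [cell_mem_PJ_iff R (cell_wOf R hG g), stY]
  constructor
  · intro h1
    rw [← Tab.sw_one cs h t] at h1
    have h2 := Tab.mem_WJ_of_sw cs h t h1.symm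
    rwa [inv_one, mul_one] at h2
  · intro h1
    rw [← Tab.sw_one cs h t, ← mul_one (wOf R hG g), Tab.sw_mul_left cs h t h1]

/-- left multiplication by the parabolic subgroup does not change the state -/
theorem stY_mul_left {y : Y} (hy : y ∈ PJ cs h T X {i | i ≠ j}) (g : Y) : stY R hG t (y * g) = stY R hG t g := by
  -- first for generators
  have key : ∀ (v : W), v ∈ WJ cs {i | i ≠ j} → ∀ (k : Y), Rp cs R.nsys v k → ∀ g, stY R hG t (k * g) = stY R hG t g := by
    intro v hv
    obtain ⟨ω, hω, rfl⟩ := exists_word_of_mem_WJ cs hv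
    clear hv
    induction ω with
    | nil =>
      intro k hk g
      rw [wordProd_nil] at hk
      exact stY_eq R hG t ((cell_wOf R hG g).mul_left (RGD.T_le_B hk.mem_of_one))
    | cons i ω ih =>
      intro k hk g
      rw [wordProd_cons] at hk
      have hi : i ≠ j := hω i (by simp)
      have h1 : Rp cs R.nsys (cs.wordProd ω) ((n i)⁻¹ * k) := by
        have := (rp_simple cs R.nsys i).inv.mul hk
        rwa [inv_simple, simple_mul_simple_cancel_left] at this
      have h2 := ih (fun l hl => hω l (by simp [hl])) _ h1 g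
      have h3 : k * g = n i * ((n i)⁻¹ * k * g) := by group
      rw [h3, ← h2]
      generalize (n i)⁻¹ * k * g = g'
      have h4 : cs.simple i ∈ WJ cs {i | i ≠ j} := simple_mem_WJ cs hi
      rcases Cell.simple_mul R (cell_of_rp (rp_simple cs R.nsys i)) (cell_wOf R hG g') with h5 | ⟨-, h5⟩
      · rw [stY_eq R hG t h5, Tab.sw_mul_left cs h t h4, stY]
      · rw [stY_eq R hG t h5, stY]
  obtain ⟨v, hv, b₁, hb₁, k, hk, b₂, hb₂, rfl⟩ := (mem_PJ_iff_cell R).1 hy
  have h1 : ∀ b ∈ RGD.B cs h T X, ∀ g, stY R hG t (b * g) = stY R hG t g := fun b hb g =>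
    stY_eq R hG t ((cell_wOf R hG g).mul_left hb)
  rw [mul_assoc, mul_assoc, h1 b₁ hb₁, key v hv k hk, h1 b₂ hb₂]

/-- right multiplication by the parabolic subgroup does not change the class of the state -/
theorem cls_mul_right {y : Y} (hy : y ∈ PJ cs h T X {i | i ≠ j}) (g : Y) :
    t.cls (stY R hG t (g * y)) = t.cls (stY R hG t g) := by
  have key : ∀ (v : W), v ∈ WJ cs {i | i ≠ j} → ∀ (k : Y), Rp cs R.nsys v k → ∀ g,
      t.cls (stY R hG t (g * k)) = t.cls (stY R hG t g) := by
    intro v hv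
    obtain ⟨ω, hω, rfl⟩ := exists_word_of_mem_WJ cs hv
    clear hv
    induction ω with
    | nil =>
      intro k hk g
      rw [wordProd_nil] at hk
      rw [stY_mul_right_B R hG t g (RGD.T_le_B hk.mem_of_one)]
    | cons i ω ih =>
      intro k hk g
      rw [wordProd_cons] at hk
      have hi : i ≠ j := hω i (by simp)
      have h1 : Rp cs R.nsys (cs.wordProd ω) ((n i)⁻¹ * k) := by
        have := (rp_simple cs R.nsys i).inv.mul hk
        rwa [inv_simple, simple_mul_simple_cancel_left] at this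
      have h2 := ih (fun l hl => hω l (by simp [hl])) _ h1 (g * n i)
      have h3 : g * n i * ((n i)⁻¹ * k) = g * k := by group
      rw [← h3, h2]
      rcases nonneg_or_nonpos cs h (wOf R hG g) i with h0 | h0
      · have h4 := stY_pos R hG t h0 (one_mem (X (sr i)))
        rw [mul_one] at h4
        rw [h4, t.cls_st i hi]
      · obtain ⟨x₀, hx₀, h4, h5⟩ := stY_neg R hG t h0
        by_cases h6 : (1 : Y) = x₀
        · rw [← h6, mul_one] at h4
          rw [h4, t.cls_st i hi]
        · have h7 := h5 1 (one_mem _) h6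
          rw [mul_one] at h7
          rw [h7]
  obtain ⟨v, hv, b₁, hb₁, k, hk, b₂, hb₂, rfl⟩ := (mem_PJ_iff_cell R).1 hy
  rw [← mul_assoc, stY_mul_right_B R hG t _ hb₂, ← mul_assoc, key v hv k hk, stY_mul_right_B R hG t _ hb₁]

/-- bi-invariant functions are functions of the class of the state -/
theorem exists_fun (F : Y → ℚ) (hl : ∀ y ∈ PJ cs h T X {i | i ≠ j}, ∀ g, F (y * g) = F g)
    (hr : ∀ y ∈ PJ cs h T X {i | i ≠ j}, ∀ g, F (g * y) = F g) :
    ∃ b : Fin m → ℚ, ∀ g, F g = b (t.cls (stY R hG t g)) := by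
  choose k hk using fun w : W => exists_rp cs R.nsys w
  choose r hr' using fun c : Fin m => t.exists_sw cs h (t.crep c)
  refine ⟨fun c => F (k (r c)), fun g => ?_⟩
  -- the value at `g` is the value at the representative of the Weyl group element
  have h1 : ∀ (w : W) (g : Y), Cell R.nsys cs h X w g → F g = F (k w) := by
    rintro w g ⟨b₁, hb₁, l, hl', b₂, hb₂, rfl⟩
    rw [hr _ (B_le_PJ hb₂), hl _ (B_le_PJ hb₁)]
    have h2 : l = k w * ((k w)⁻¹ * l) := by group
    rw [h2, hr _ (B_le_PJ (RGD.T_le_B ((hk w).unique hl')))]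
  rw [h1 _ g (cell_wOf R hG g)]
  obtain ⟨v, hv, u, hu, e⟩ := Tab.exists_word cs h t (hr' (t.cls (stY R hG t g))) (w' := wOf R hG g) rfl
  have h3 : Rp cs R.nsys (u * r (t.cls (stY R hG t g)) * v) (k u * k (r (t.cls (stY R hG t g))) * k v) :=
    ((hk u).mul (hk _)).mul (hk v)
  rw [e, ← h1 _ _ (cell_of_rp h3), hr _ (LJ_le_PJ (rp_mem_LJ R hv (hk v))),
    hl _ (LJ_le_PJ (rp_mem_LJ R hu (hk u)))]

section Count

variable [Fintype Y] (q : I → ℕ) (hq : ∀ i, Nat.card (X (sr i)) = q i)

/-- The number of elements of a given state. -/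
noncomputable def cnt (s : Fin N) : ℚ := ∑ g, (Pi.single s (1 : ℚ) : Fin N → ℚ) (stY R hG t g)

include hq in
theorem cnt_st {i : I} {s : Fin N} (hs : 0 < t.vec s i) : cnt R hG t (t.st i s) = q i * cnt R hG t s := by
  have h1 := sum_opT (X := X) (n := n) q hq i (fun g => (Pi.single s (1 : ℚ) : Fin N → ℚ) (stY R hG t g))
  rw [opT_stY R hG t q hq] at h1
  rw [cnt, cnt, ← h1]
  refine Finset.sum_congr rfl fun g _ => ?_
  beta_reduce
  generalize stY R hG t g = u
  unfold Tab.tau
  have h2 : t.vec u i < 0 → u ≠ s := by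
    rintro h3 rfl
    omega
  by_cases hu : u = t.st i s
  · subst hu
    have h3 : t.vec (t.st i s) i < 0 := by
      rw [Tab.vec_st_self cs h t]
      omega
    rw [if_pos h3, Tab.st_st cs h t, Pi.single_eq_same, Pi.single_eq_same, Pi.single_eq_of_ne (h2 h3), mul_zero,
      add_zero]
  · have h4 : t.st i u ≠ s := by
      intro h5
      apply hu
      rw [← h5, Tab.st_st cs h t]
    rw [Pi.single_eq_of_ne hu, Pi.single_eq_of_ne h4]
    split_ifs with h5
    · rw [Pi.single_eq_of_ne (h2 h5), mul_zero, add_zero]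
    · rw [mul_zero]

include hq in
theorem cnt_eq (wt : Fin N → ℕ) (hw : wt t.o = 1) (hws : ∀ i s, 0 < t.vec s i → wt (t.st i s) = q i * wt s)
    (s : Fin N) : cnt R hG t s = wt s * cnt R hG t t.o := by
  have hq0 : ∀ i, (q i : ℚ) ≠ 0 := fun i => by
    rw [← hq i]
    exact Nat.cast_ne_zero.2 Nat.card_pos.ne'
  have key : ∀ ω : List I, cnt R hG t (ω.foldl (fun b i => t.st i b) t.o) =
      wt (ω.foldl (fun b i => t.st i b) t.o) * cnt R hG t t.o := by
    intro ω
    induction ω using List.reverseRecOn with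
    | nil => rw [List.foldl_nil, hw, Nat.cast_one, one_mul]
    | append_singleton ω i ih =>
      rw [List.foldl_append, List.foldl_cons, List.foldl_nil]
      generalize ω.foldl (fun b i => t.st i b) t.o = u at ih ⊢
      rcases lt_trichotomy (t.vec u i) 0 with h1 | h1 | h1
      · have h2 : 0 < t.vec (t.st i u) i := by
          rw [Tab.vec_st_self cs h t]
          omega
        have h3 := cnt_st R hG t q hq h2
        have h4 := hws i (t.st i u) h2
        rw [Tab.st_st cs h t] at h3 h4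
        rw [h3, h4, Nat.cast_mul, mul_assoc] at ih
        exact mul_left_cancel₀ (hq0 i) ih
      · rw [Tab.st_eq_of_zero cs h t h1]
        exact ih
      · rw [cnt_st R hG t q hq h1, ih, hws i u h1, Nat.cast_mul, mul_assoc]
  have h1 := key (t.path s)
  rwa [t.path_spec] at h1

theorem sum_stY (φ : Fin N → ℚ) : ∑ g, φ (stY R hG t g) = ∑ s, φ s * cnt R hG t s := by
  have h1 : ∀ g, φ (stY R hG t g) = ∑ s, φ s * (Pi.single s (1 : ℚ) : Fin N → ℚ) (stY R hG t g) := by
    intro g
    rw [Finset.sum_eq_single (stY R hG t g)]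
    · rw [Pi.single_eq_same, mul_one]
    · intro s _ hs
      rw [Pi.single_eq_of_ne (Ne.symm hs), mul_zero]
    · exact fun h1 => absurd (Finset.mem_univ _) h1
  rw [Finset.sum_congr rfl fun g _ => h1 g, Finset.sum_comm]
  refine Finset.sum_congr rfl fun s _ => ?_
  rw [cnt, Finset.mul_sum]

theorem cnt_o : cnt R hG t t.o = Nat.card (PJ cs h T X {i | i ≠ j}) := by
  classical
  rw [cnt]
  have h1 : ∀ g, (Pi.single t.o (1 : ℚ) : Fin N → ℚ) (stY R hG t g) =
      if g ∈ PJ cs h T X {i | i ≠ j} then 1 else 0 := by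
    intro g
    split_ifs with h2
    · rw [(stY_eq_o_iff R hG t).2 h2, Pi.single_eq_same]
    · rw [Pi.single_eq_of_ne]
      exact fun h3 => h2 ((stY_eq_o_iff R hG t).1 h3)
  rw [Finset.sum_congr rfl fun g _ => h1 g, Finset.sum_boole, Nat.card_eq_fintype_card, Fintype.card_subtype]

include hq in
/-- the sum over the points of a function of the class -/
theorem sum_quot (wt : Fin N → ℕ) (hw : wt t.o = 1) (hws : ∀ i s, 0 < t.vec s i → wt (t.st i s) = q i * wt s)
    (φ : Fin N → ℚ) (f : Y ⧸ PJ cs h T X {i | i ≠ j} → ℚ) (hf : ∀ g : Y, f g = φ (stY R hG t g))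
    [Fintype (Y ⧸ PJ cs h T X {i | i ≠ j})] : ∑ x, f x = ∑ s, wt s * φ s := by
  classical
  obtain ⟨P, hP⟩ : ∃ P, P = PJ cs h T X {i | i ≠ j} := ⟨_, rfl⟩
  have hc0 : (Nat.card (PJ cs h T X {i | i ≠ j}) : ℚ) ≠ 0 := Nat.cast_ne_zero.2 Nat.card_pos.ne'
  have h1 : ∑ g, φ (stY R hG t g) = Nat.card (PJ cs h T X {i | i ≠ j}) * ∑ x, f x := by
    rw [Finset.sum_congr rfl fun g _ => (hf g).symm]
    rw [← Finset.sum_fiberwise Finset.univ (fun g : Y => (g : Y ⧸ PJ cs h T X {i | i ≠ j})), Finset.mul_sum]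
    refine Finset.sum_congr rfl fun x _ => ?_
    have h2 : ∀ g ∈ Finset.univ.filter (fun g : Y => (g : Y ⧸ PJ cs h T X {i | i ≠ j}) = x), f g = f x := by
      intro g hg
      rw [(Finset.mem_filter.1 hg).2]
    rw [Finset.sum_congr rfl h2, Finset.sum_const, nsmul_eq_mul]
    congr 1
    rw [Nat.cast_inj]
    induction x using Quotient.inductionOn' with
    | h y =>
      have h3 : Finset.univ.filter (fun g : Y => (g : Y ⧸ PJ cs h T X {i | i ≠ j}) = Quotient.mk'' y) =
          Finset.univ.image (fun x : PJ cs h T X {i | i ≠ j} => y * x) := by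
        ext g
        rw [Finset.mem_filter, Finset.mem_image]
        constructor
        · rintro ⟨-, h4⟩
          have h5 : y⁻¹ * g ∈ PJ cs h T X {i | i ≠ j} := QuotientGroup.eq.1 h4.symm
          exact ⟨⟨_, h5⟩, Finset.mem_univ _, by simp⟩
        · rintro ⟨x, -, rfl⟩
          exact ⟨Finset.mem_univ _, (QuotientGroup.eq.2 (by simp)).symm⟩
      rw [h3, Finset.card_image_of_injective _ (fun a b hab => Subtype.ext (mul_left_cancel hab)), Finset.card_univ,
        Nat.card_eq_fintype_card]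
  rw [sum_stY, Finset.sum_congr rfl fun s _ => by rw [cnt_eq R hG t q hq wt hw hws s, cnt_o], ] at h1
  have h2 : ∑ s, φ s * (wt s * (Nat.card (PJ cs h T X {i | i ≠ j}) : ℚ)) =
      Nat.card (PJ cs h T X {i | i ≠ j}) * ∑ s, wt s * φ s := by
    rw [Finset.mul_sum]
    exact Finset.sum_congr rfl fun s _ => by ring
  rw [h2] at h1
  exact (mul_left_cancel₀ hc0 h1).symm

end Count

end Cfsg.Agent.H967.Sph
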