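import Cfsg.Agent.H707.Odd.EigenDeg

/-!
# The irreducible character of a spherical vector (helper967; same proof as `H707.Odd.ratOdd_of_spherical`)
-/

set_option autoImplicit false

namespace Cfsg.Agent.H967.Sph

open Cfsg Cfsg.Agent.H707.Odd Representation

universe u

variable {G : Type u} [Group G] [Finite G] {X : Type*} [Fintype X] [MulAction G X]

/-- `G` acts transitively on `X`, `V` is an invariant space of rational functions in which the `Q`-invariant functions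
are the multiples of `e₀`, `e₀ x₀ = 1`, `d * ∑ e₀ ^ 2 = |X|`: there is a rational irreducible character of degree
`d`. -/
theorem exists_of_spherical (htr : ∀ x y : X, ∃ g : G, g • x = y) (V : Submodule ℚ (X → ℚ))
    (hV : ∀ (g : G), ∀ f ∈ V, (fun x => f (g • x)) ∈ V) (Q : Subgroup G) (x₀ : X)
    (h₀ : ∀ f ∈ V, ∀ q ∈ Q, f (q • x₀) = f x₀) (e₀ : X → ℚ) (he : e₀ ∈ V) (heQ : ∀ q ∈ Q, ∀ x, e₀ (q • x) = e₀ x)
    (he1 : e₀ x₀ = 1) (hone : ∀ f ∈ V, (∀ q ∈ Q, ∀ x, f (q • x) = f x) → ∃ c : ℚ, f = c • e₀)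
    (d : ℕ) (hsum : (d : ℚ) * ∑ x, e₀ x ^ 2 = Fintype.card X) :
    ∃ χ : G → ℂ, IsIrrCharacter G χ ∧ (∀ g, ∃ r : ℚ, χ g = r) ∧ χ 1 = d := by
  let ρ : Representation ℚ G V :=
    { toFun := fun g =>
        { toFun := fun φ => ⟨fun x => (φ : X → ℚ) (g⁻¹ • x), hV _ φ φ.2⟩
          map_add' := fun _ _ => rfl
          map_smul' := fun _ _ => rfl }
      map_one' := by
        refine LinearMap.ext fun φ => Subtype.ext (funext fun x => ?_)
        show (φ : X → ℚ) ((1 : G)⁻¹ • x) = (φ : X → ℚ) x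
        rw [inv_one, one_smul]
      map_mul' := fun g h => by
        refine LinearMap.ext fun φ => Subtype.ext (funext fun x => ?_)
        show (φ : X → ℚ) ((g * h)⁻¹ • x) = (φ : X → ℚ) (h⁻¹ • g⁻¹ • x)
        rw [mul_inv_rev, mul_smul] }
  have hρ : ∀ g (φ : V) x, ((ρ g φ : V) : X → ℚ) x = (φ : X → ℚ) (g⁻¹ • x) := fun _ _ _ => rfl
  let e : V := ⟨e₀, he⟩
  have hne : e ≠ 0 := by
    intro h
    have h1 : e₀ x₀ = 0 := congrArg (fun φ : V => (φ : X → ℚ) x₀) h
    rw [he1] at h1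
    exact one_ne_zero h1
  obtain ⟨χ, hχ, hrat, hdeg⟩ := exists_of_eigen ρ Q (fun _ => 1) e hne
    (by
      intro q hq
      rw [one_smul]
      refine Subtype.ext (funext fun x => ?_)
      rw [hρ]
      exact heQ _ (Q.inv_mem hq) x)
    (by
      intro φ hφ
      obtain ⟨c, hc⟩ := hone φ φ.2 (by
        intro q hq x
        have h1 := hφ q⁻¹ (Q.inv_mem hq)
        rw [one_smul] at h1
        have h2 := congrArg (fun ψ : V => (ψ : X → ℚ) x) h1
        simp only [hρ, inv_inv] at h2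
        exact h2)
      exact ⟨c, Subtype.ext hc⟩)
  -- the dimension
  obtain ⟨N, hN⟩ : ∃ N : Submodule ℚ V, N = Submodule.span ℚ (Set.range fun g => ρ g e) := ⟨_, rfl⟩
  rw [← hN] at hdeg
  have heN : e ∈ N := by
    rw [hN]
    exact Submodule.subset_span ⟨1, by show ρ 1 e = e; rw [map_one]; rfl⟩
  have hNinv : ∀ g, ∀ v ∈ N, ρ g v ∈ N := by
    intro g v hv
    rw [hN] at hv ⊢
    induction hv using Submodule.span_induction with
    | mem x hx =>
      obtain ⟨h, rfl⟩ := hx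
      refine Submodule.subset_span ⟨g * h, ?_⟩
      simp only [map_mul, Module.End.mul_apply]
    | zero => rw [map_zero]; exact Submodule.zero_mem _
    | add x y _ _ hx hy => rw [map_add]; exact Submodule.add_mem _ hx hy
    | smul c x _ hx => rw [map_smul]; exact Submodule.smul_mem _ c hx
  have hfin := finrank_mul_sum_sq htr (N.map V.subtype)
    (by
      rintro g f ⟨φ, hφ, rfl⟩
      refine ⟨ρ g⁻¹ φ, hNinv _ φ hφ, ?_⟩
      funext x
      show (φ : X → ℚ) ((g⁻¹)⁻¹ • x) = (φ : X → ℚ) (g • x)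
      rw [inv_inv])
    Q x₀
    (by
      rintro f ⟨φ, hφ, rfl⟩ q hq
      exact h₀ φ φ.2 q hq)
    e₀ ⟨e, heN, rfl⟩ heQ he1
    (by
      rintro f ⟨φ, hφ, rfl⟩ h
      exact hone φ φ.2 h)
  rw [LinearEquiv.finrank_eq (Submodule.equivMapOfInjective V.subtype V.injective_subtype N).symm, ← hsum] at hfin
  have hs0 : ∑ x, e₀ x ^ 2 ≠ 0 := by
    have h1 : e₀ x₀ ^ 2 ≤ ∑ x, e₀ x ^ 2 := Finset.single_le_sum (fun _ _ => sq_nonneg _) (Finset.mem_univ x₀)
    rw [he1, one_pow] at h1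
    positivity
  have hfd : (Module.finrank ℚ N : ℚ) = d := mul_right_cancel₀ hs0 hfin
  have hfd' : Module.finrank ℚ N = d := by exact_mod_cast hfd
  rw [hfd'] at hdeg
  exact ⟨χ, hχ, hrat, hdeg⟩

end Cfsg.Agent.H967.Sph
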