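import Cfsg.Agent.H967.Sph.Count
import Cfsg.Agent.H967.Sph.Spherical

/-!
# The spherical machine (helper967, T1a of task 838)

`exists_char`: a solution of a finite system of linear equations (a table, an eigenvalue, the values of the spherical
function) gives an irreducible character of a finite group with root group data, of known degree.
-/

set_option autoImplicit false

namespace Cfsg.Agent.H967.Sph

open CoxeterSystem Cfsg.Agent.ChevalleyStructure.CoxeterGeom Cfsg.Agent.Tits.Roots Cfsg.Agent.Tits.Core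
  Cfsg.Agent.Nodes.Reps Cfsg.Agent.Nodes.BNOf Cfsg.Agent.Nodes.Bruhat Cfsg.Agent.Nodes.LeviDec

universe u

/-- **Spherical machine.** `a` is the vector of values of a spherical function on the classes of states, normalised at
the base point, an eigenvector with eigenvalue `θ` of the sum of the operators of the words in `D`; the eigenspace is
one-dimensional (`hu`); `wt` are the weights of the states (`wt s` chambers per chamber of the base point). Then
`d = (∑ wt) / (∑ wt * a ^ 2)` is the degree of a rational irreducible character of `Y`. -/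
theorem exists_char {I W : Type*} {Y : Type u} [Fintype I] [DecidableEq I] [Group W] [Finite W] [Group Y] [Finite Y]
    {M : CoxeterMatrix I} {cs : CoxeterSystem M W} {A : I → I → ℤ} {h : IsCartan M A} {p : ℕ} {T : Subgroup Y}
    {n : I → Y} {X : (I → ℤ) → Subgroup Y} (R : RGD cs h p T n X) (hG : GG cs h T X = ⊤)
    {j : I} {N m : ℕ} (t : Tab A j N m) (q : I → ℕ) (hq : ∀ i, Nat.card (X (sr i)) = q i)
    (D : List (List I)) (θ : ℚ) (a : Fin m → ℚ) (ha : a (t.cls t.o) = 1)
    (he : ∀ s, t.tauD q D (fun u => a (t.cls u)) s = θ * a (t.cls s))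
    (hu : ∀ b : Fin m → ℚ, (∀ s, t.tauD q D (fun u => b (t.cls u)) s = θ * b (t.cls s)) →
      ∀ c, b c = b (t.cls t.o) * a c)
    (wt : Fin N → ℕ) (hw : wt t.o = 1) (hws : ∀ i s, 0 < t.vec s i → wt (t.st i s) = q i * wt s)
    (d : ℕ) (hd : (d : ℚ) * ∑ s, (wt s : ℚ) * a (t.cls s) ^ 2 = ∑ s, (wt s : ℚ)) :
    ∃ χ : Y → ℂ, Cfsg.IsIrrCharacter Y χ ∧ (∀ g, ∃ r : ℚ, χ g = r) ∧ χ 1 = d := by
  classical
  have := Fintype.ofFinite Y
  have := Fintype.ofFinite (Y ⧸ PJ cs h T X {i | i ≠ j})
  -- the space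
  let pull : (Y ⧸ PJ cs h T X {i | i ≠ j} → ℚ) →ₗ[ℚ] (Y → ℚ) :=
    LinearMap.funLeft ℚ ℚ (fun g : Y => (g : Y ⧸ PJ cs h T X {i | i ≠ j}))
  have hpull : ∀ f g, pull f g = f (g : Y ⧸ PJ cs h T X {i | i ≠ j}) := fun _ _ => rfl
  let V : Submodule ℚ (Y ⧸ PJ cs h T X {i | i ≠ j} → ℚ) := LinearMap.ker ((opD X n D - θ • LinearMap.id) ∘ₗ pull)
  have hV : ∀ f, f ∈ V ↔ ∀ g, opD X n D (pull f) g = θ * f (g : Y ⧸ PJ cs h T X {i | i ≠ j}) := by
    intro f
    rw [LinearMap.mem_ker, LinearMap.comp_apply, LinearMap.sub_apply, sub_eq_zero, funext_iff]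
    rfl
  -- the spherical function
  let e₀ : Y ⧸ PJ cs h T X {i | i ≠ j} → ℚ := fun x => Quotient.liftOn' x (fun g => a (t.cls (stY R hG t g))) (by
    intro g g' hgg
    have h1 : g⁻¹ * g' ∈ PJ cs h T X {i | i ≠ j} := QuotientGroup.leftRel_apply.1 hgg
    have h2 := cls_mul_right R hG t h1 g
    rw [mul_inv_cancel_left] at h2
    rw [h2])
  have he₀ : ∀ g : Y, e₀ g = a (t.cls (stY R hG t g)) := fun _ => rfl
  have hbase : t.cls (stY R hG t 1) = t.cls t.o := by
    rw [(stY_eq_o_iff R hG t).2 (one_mem _)]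
  have hpull₀ : pull e₀ = fun g => (fun u => a (t.cls u)) (stY R hG t g) := rfl
  refine exists_of_spherical (X := Y ⧸ PJ cs h T X {i | i ≠ j}) ?_ V ?_ (PJ cs h T X {i | i ≠ j})
    ((1 : Y) : Y ⧸ PJ cs h T X {i | i ≠ j}) ?_ e₀ ?_ ?_ ?_ ?_ d ?_
  · intro x y
    exact MulAction.exists_smul_eq Y x y
  · intro y f hf
    rw [hV] at hf ⊢
    intro g
    have h1 : pull (fun x => f (y • x)) = fun g => pull f (y * g) := rfl
    rw [h1, opD_left]
    exact hf (y * g)
  · intro f _ y hy
    congr 1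
    exact QuotientGroup.eq.2 (by simpa using inv_mem hy)
  · rw [hV]
    intro g
    rw [hpull₀]
    exact (congrFun (opD_stY R hG t q hq D (fun u => a (t.cls u))) g).trans (he _)
  · intro y hy x
    induction x using Quotient.inductionOn' with
    | h g =>
      show e₀ ((y * g : Y) : Y ⧸ PJ cs h T X {i | i ≠ j}) = e₀ (g : Y ⧸ PJ cs h T X {i | i ≠ j})
      rw [he₀, he₀, stY_mul_left R hG t hy]
  · rw [he₀, hbase, ha]
  · intro f hf hinv
    obtain ⟨b, hb⟩ := exists_fun R hG t (pull f)
      (fun y hy g => hinv y hy (g : Y ⧸ PJ cs h T X {i | i ≠ j}))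
      (fun y hy g => by
        rw [hpull, hpull]
        congr 1
        exact QuotientGroup.eq.2 (by simpa using hy))
    have hb' : pull f = fun g => (fun u => b (t.cls u)) (stY R hG t g) := funext hb
    have h1 : ∀ s, t.tauD q D (fun u => b (t.cls u)) s = θ * b (t.cls s) := by
      intro s
      obtain ⟨w, hw'⟩ := t.exists_sw cs h s
      obtain ⟨k, hk⟩ := exists_rp cs R.nsys w
      have h2 : stY R hG t k = s := by rw [stY_eq R hG t (cell_of_rp hk), hw']
      have h3 := (hV f).1 hf k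
      have h4 := congrFun (opD_stY R hG t q hq D (fun u => b (t.cls u))) k
      beta_reduce at h4
      rw [h2] at h4
      rw [hb'] at h3
      rw [← h4]
      refine h3.trans ?_
      rw [← hpull f k, hb k, h2]
    refine ⟨b (t.cls t.o), funext fun x => ?_⟩
    induction x using Quotient.inductionOn' with
    | h g =>
      show pull f g = b (t.cls t.o) * e₀ (g : Y ⧸ PJ cs h T X {i | i ≠ j})
      rw [hb, he₀, hu b h1]
  · rw [sum_quot R hG t q hq wt hw hws (fun s => a (t.cls s) ^ 2) (fun x => e₀ x ^ 2) (fun g => by rw [he₀]), hd]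
    have h1 := sum_quot R hG t q hq wt hw hws (fun _ => 1) (fun _ => 1) (fun _ => rfl)
    rw [Finset.sum_const, Finset.card_univ, nsmul_eq_mul, mul_one] at h1
    rw [h1]
    exact Finset.sum_congr rfl fun s _ => by rw [mul_one]

end Cfsg.Agent.H967.Sph
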