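import Cfsg.Agent.Nodes.LeviDec

/-!
# The spherical machine: the neighbours of a chamber (helper967)

`g ∈ B w B`. If `w α_i > 0` then `g x n_i ∈ B w s_i B` for all `x ∈ X_i`; if `w α_i < 0` then this holds for exactly one
`x`, and `g x n_i ∈ B w B` for the others.
-/

set_option autoImplicit false
set_option linter.unusedSectionVars false

namespace Cfsg.Agent.H967.Sph

open CoxeterSystem Cfsg.Agent.ChevalleyStructure.CoxeterGeom Cfsg.Agent.Tits.Roots Cfsg.Agent.Tits.Core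
  Cfsg.Agent.Nodes.Reps Cfsg.Agent.Nodes.BNOf Cfsg.Agent.Nodes.Bruhat Cfsg.Agent.Nodes.LeviDec

variable {I W Y : Type*} [Fintype I] [DecidableEq I] [Group W] [Finite W] [Group Y] {M : CoxeterMatrix I}
  {cs : CoxeterSystem M W} {A : I → I → ℤ} {h : IsCartan M A} {p : ℕ} {T : Subgroup Y} {n : I → Y}
  {X : (I → ℤ) → Subgroup Y} (R : RGD cs h p T n X)

include R

theorem cell_pos {w : W} {i : I} (h0 : 0 ≤ rep cs h w (sr i)) {g : Y} (hg : Cell R.nsys cs h X w g) {x : Y}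
    (hx : x ∈ X (sr i)) : Cell R.nsys cs h X (w * cs.simple i) (g * x * n i) := by
  have h1 : cs.length w < cs.length (w * cs.simple i) := (lt_iff' cs h w i).2 h0
  have h2 : cs.length (w * cs.simple i) = cs.length w + cs.length (cs.simple i) := by
    rw [cs.length_simple]
    have := cs.length_mul_simple w i
    omega
  have h3 : Cell R.nsys cs h X (cs.simple i) (x * n i) :=
    (cell_of_rp (rp_simple cs R.nsys i)).mul_left (RGD.X_le_B (isRoot_sr cs h i) (sr_nonneg i) hx)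
  rw [mul_assoc]
  exact Cell.mul_of_length R h2 hg h3

theorem cell_neg {w : W} {i : I} (h0 : rep cs h w (sr i) ≤ 0) {g : Y} (hg : Cell R.nsys cs h X w g) :
    ∃ x₀ ∈ X (sr i), Cell R.nsys cs h X (w * cs.simple i) (g * x₀ * n i) ∧
      ∀ x ∈ X (sr i), x ≠ x₀ → Cell R.nsys cs h X w (g * x * n i) := by
  obtain ⟨b₁, hb₁, k, hk, b₂, hb₂, rfl⟩ := hg
  obtain ⟨v, hv, u, hu, t, ht, e⟩ := R.mem_B' i (inv_mem hb₂)
  have e2 : b₂ = t⁻¹ * u⁻¹ * v⁻¹ := by
    rw [← inv_inv b₂, e]; group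
  -- the representative of `w s_i`
  obtain ⟨l, hl⟩ : ∃ l, l = k * t⁻¹ * (n i)⁻¹ := ⟨_, rfl⟩
  have hlr : Rp cs R.nsys (w * cs.simple i) l := by
    have h1 := (hk.mul_mem_right (inv_mem ht)).mul (rp_simple cs R.nsys i).inv
    rw [inv_simple] at h1
    rw [hl]
    exact h1
  have hlpos : 0 ≤ rep cs h (w * cs.simple i) (sr i) := by
    rw [rep_mul_apply, rep_simple_sr, map_neg]
    exact neg_nonneg.2 h0
  -- the rewriting
  have key : ∀ x ∈ X (sr i), ∃ b ∈ RGD.B cs h T X, b₁ * k * b₂ * x * n i = b₁ * (l * (n i * (u⁻¹ * x) * n i)) * b := by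
    intro x hx
    have h1 : x⁻¹ * v⁻¹ * x ∈ RGD.Sup X (RGD.PosNe cs h i) := by
      have h2 := (Subgroup.mem_normalizer_iff.1 (R.X_le_normalizer_V i (inv_mem hx)) v⁻¹).1 (inv_mem hv)
      rwa [inv_inv] at h2
    have h3 : (n i)⁻¹ * (x⁻¹ * v⁻¹ * x) * n i ∈ RGD.Sup X (RGD.PosNe cs h i) := by
      rw [← R.cj_n_V i] at h1
      exact mem_cj.1 h1
    refine ⟨(n i)⁻¹ * (x⁻¹ * v⁻¹ * x) * n i,
      RGD.U_le_B (RGD.Sup_mono (S := RGD.PosNe cs h i) (S' := RGD.Pos cs h) (fun z hz => ⟨hz.1, hz.2.1⟩) h3), ?_⟩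
    rw [e2, hl]
    group
  refine ⟨u, hu, ?_, ?_⟩
  · obtain ⟨b, hb, e3⟩ := key u hu
    rw [e3]
    refine ⟨b₁, hb₁, _, ?_, b, hb, rfl⟩
    have h4 : l * (n i * (u⁻¹ * u) * n i) = l * (n i * n i) := by group
    rw [h4]
    exact hlr.mul_mem_right (R.sq_mem_T i)
  · intro x hx hxu
    obtain ⟨b, hb, e3⟩ := key x hx
    rw [e3]
    have hy : u⁻¹ * x ∈ X (sr i) := mul_mem (inv_mem hu) hx
    have h1 : n i * (u⁻¹ * x) * (n i)⁻¹ ∈ X (-sr i) := by
      have := R.conj_mem (rp_simple cs R.nsys i) (isRoot_sr cs h i) hy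
      rwa [rep_simple_sr] at this
    have h2 : n i * (u⁻¹ * x) * (n i)⁻¹ ≠ 1 := by
      intro h3
      apply hxu
      have h4 := mul_eq_left.1 (mul_inv_eq_one.1 h3)
      exact (inv_mul_eq_one.1 h4).symm
    obtain ⟨a, ha, s, hs, c, hc, e'⟩ := R.rk1 i _ h1 h2
    have h3 : l * a * l⁻¹ ∈ RGD.B cs h T X :=
      RGD.X_le_B ((isRoot_sr cs h i).act _) hlpos (R.conj_mem hlr (isRoot_sr cs h i) ha)
    refine ⟨b₁ * (l * a * l⁻¹), mul_mem hb₁ h3, l * s * n i, ?_, c * (n i * n i) * b,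
      mul_mem (mul_mem (RGD.X_le_B (isRoot_sr cs h i) (sr_nonneg i) hc) (RGD.T_le_B (R.sq_mem_T i))) hb, ?_⟩
    · have h4 := (hlr.mul_mem_right hs).mul (rp_simple cs R.nsys i)
      rwa [simple_mul_simple_cancel_right] at h4
    · have h5 : n i * (u⁻¹ * x) * n i = n i * (u⁻¹ * x) * (n i)⁻¹ * (n i * n i) := by group
      rw [h5, e']
      group

end Cfsg.Agent.H967.Sph
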