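import Cfsg.Agent.H967.Sph.State
import Cfsg.Agent.H967.Sph.Panel

/-!
# The spherical machine: the operators (helper967)

`stY R hG t g`: the state of `g ∈ Y`; `opT`, `opW`, `opD`: the operators on the functions on `Y`; they act on the
functions of the state as the operators of the table.
-/

set_option autoImplicit false
set_option linter.unusedSectionVars false

namespace Cfsg.Agent.H967.Sph

open CoxeterSystem Cfsg.Agent.ChevalleyStructure.CoxeterGeom Cfsg.Agent.Tits.Roots Cfsg.Agent.Tits.Core
  Cfsg.Agent.Nodes.Reps Cfsg.Agent.Nodes.BNOf Cfsg.Agent.Nodes.Bruhat Cfsg.Agent.Nodes.LeviDec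

variable {I W Y : Type*} [Fintype I] [DecidableEq I] [Group W] [Finite W] [Group Y] {M : CoxeterMatrix I}
  {cs : CoxeterSystem M W} {A : I → I → ℤ} {h : IsCartan M A} {p : ℕ} {T : Subgroup Y} {n : I → Y}
  {X : (I → ℤ) → Subgroup Y} (R : RGD cs h p T n X) (hG : GG cs h T X = ⊤) {j : I} {N m : ℕ} (t : Tab A j N m)

section State

include hG in
theorem exists_cell (g : Y) : ∃ w, Cell R.nsys cs h X w g :=
  (mem_GG R).1 (by rw [hG]; exact Subgroup.mem_top g)

/-- The Weyl group element of `g`. -/
noncomputable def wOf (g : Y) : W := (exists_cell R hG g).choose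

theorem cell_wOf (g : Y) : Cell R.nsys cs h X (wOf R hG g) g := (exists_cell R hG g).choose_spec

/-- The state of `g`. -/
noncomputable def stY (g : Y) : Fin N := t.sw cs h (wOf R hG g)

theorem stY_eq {w : W} {g : Y} (hg : Cell R.nsys cs h X w g) : stY R hG t g = t.sw cs h w := by
  rw [stY, Cell.unique R (cell_wOf R hG g) hg]

theorem stY_mul_right_B (g : Y) {b : Y} (hb : b ∈ RGD.B cs h T X) : stY R hG t (g * b) = stY R hG t g :=
  stY_eq R hG t ((cell_wOf R hG g).mul_right hb)

/-- the weight vector of a state -/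
theorem vec_stY (g : Y) (i : I) : t.vec (stY R hG t g) i = rep cs h (wOf R hG g) (sr i) j := by
  rw [stY, Tab.vec_sw]
  rfl

theorem stY_pos {g : Y} {i : I} (h0 : 0 ≤ rep cs h (wOf R hG g) (sr i)) {x : Y} (hx : x ∈ X (sr i)) :
    stY R hG t (g * x * n i) = t.st i (stY R hG t g) := by
  rw [stY_eq R hG t (cell_pos R h0 (cell_wOf R hG g) hx), Tab.sw_mul_simple, stY]

theorem stY_neg {g : Y} {i : I} (h0 : rep cs h (wOf R hG g) (sr i) ≤ 0) :
    ∃ x₀ ∈ X (sr i), stY R hG t (g * x₀ * n i) = t.st i (stY R hG t g) ∧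
      ∀ x ∈ X (sr i), x ≠ x₀ → stY R hG t (g * x * n i) = stY R hG t g := by
  obtain ⟨x₀, hx₀, h1, h2⟩ := cell_neg R h0 (cell_wOf R hG g)
  refine ⟨x₀, hx₀, ?_, fun x hx hne => ?_⟩
  · rw [stY_eq R hG t h1, Tab.sw_mul_simple, stY]
  · rw [stY_eq R hG t (h2 x hx hne), stY]

end State

section Op

variable [Finite Y]

/-- The operator `T_i`. -/
noncomputable def opT (X : (I → ℤ) → Subgroup Y) (n : I → Y) (i : I) : (Y → ℚ) →ₗ[ℚ] (Y → ℚ) where
  toFun F g := ∑ᶠ x : X (sr i), F (g * x * n i)
  map_add' F G := by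
    funext g
    exact finsum_add_distrib (Set.toFinite _) (Set.toFinite _)
  map_smul' c F := by
    funext g
    rw [RingHom.id_apply, Pi.smul_apply, smul_eq_mul, mul_finsum]
    rfl

theorem opT_apply (i : I) (F : Y → ℚ) (g : Y) : opT X n i F g = ∑ᶠ x : X (sr i), F (g * x * n i) := rfl

/-- The operator of a word. -/
noncomputable def opW (X : (I → ℤ) → Subgroup Y) (n : I → Y) : List I → ((Y → ℚ) →ₗ[ℚ] (Y → ℚ))
  | [] => LinearMap.id
  | i :: w => opT X n i ∘ₗ opW X n w

/-- The operator of a list of words. -/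
noncomputable def opD (X : (I → ℤ) → Subgroup Y) (n : I → Y) (D : List (List I)) : (Y → ℚ) →ₗ[ℚ] (Y → ℚ) :=
  (D.map (opW X n)).sum

/-- the operators commute with the left translations -/
theorem opT_left (i : I) (F : Y → ℚ) (y : Y) :
    opT X n i (fun g => F (y * g)) = fun g => opT X n i F (y * g) := by
  funext g
  rw [opT_apply, opT_apply]
  refine finsum_congr fun x => ?_
  rw [mul_assoc, mul_assoc, ← mul_assoc y, ← mul_assoc]

theorem opW_left (w : List I) (F : Y → ℚ) (y : Y) :
    opW X n w (fun g => F (y * g)) = fun g => opW X n w F (y * g) := by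
  induction w with
  | nil => rfl
  | cons i w ih =>
    rw [opW, LinearMap.comp_apply, ih, opT_left]
    rfl

theorem opD_apply (D : List (List I)) (F : Y → ℚ) (g : Y) :
    opD X n D F g = (D.map fun w => opW X n w F g).sum := by
  rw [opD]
  induction D with
  | nil => simp
  | cons w D ih => simp [ih]

theorem opD_left (D : List (List I)) (F : Y → ℚ) (y : Y) :
    opD X n D (fun g => F (y * g)) = fun g => opD X n D F (y * g) := by
  funext g
  rw [opD_apply, opD_apply]
  congr 1
  refine List.map_congr_left fun w _ => ?_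
  rw [opW_left]

variable (q : I → ℕ) (hq : ∀ i, Nat.card (X (sr i)) = q i)

include hq in
/-- **the key lemma**: `T_i` on the functions of the state -/
theorem opT_stY (i : I) (φ : Fin N → ℚ) :
    opT X n i (fun g => φ (stY R hG t g)) = fun g => t.tau q i φ (stY R hG t g) := by
  classical
  have := Fintype.ofFinite (X (sr i))
  funext g
  rw [opT_apply, finsum_eq_sum_of_fintype]
  have hcard : (Fintype.card (X (sr i)) : ℚ) = q i := by rw [← hq, Nat.card_eq_fintype_card]
  rcases nonneg_or_nonpos cs h (wOf R hG g) i with h0 | h0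
  · have h1 : ∀ x : X (sr i), φ (stY R hG t (g * x * n i)) = φ (t.st i (stY R hG t g)) := fun x => by
      rw [stY_pos R hG t h0 x.2]
    rw [Finset.sum_congr rfl fun x _ => h1 x, Finset.sum_const, Finset.card_univ, nsmul_eq_mul, hcard, Tab.tau,
      if_neg]
    rw [vec_stY, not_lt]
    exact h0 j
  · obtain ⟨x₀, hx₀, h1, h2⟩ := stY_neg R hG t h0
    have h3 : ∑ x : X (sr i), φ (stY R hG t (g * x * n i)) =
        φ (t.st i (stY R hG t g)) + ((q i : ℚ) - 1) * φ (stY R hG t g) := by
      rw [← Finset.add_sum_erase _ _ (Finset.mem_univ (⟨x₀, hx₀⟩ : X (sr i)))]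
      congr 1
      · exact congrArg φ h1
      · have h4 : ∀ x ∈ Finset.univ.erase (⟨x₀, hx₀⟩ : X (sr i)),
            φ (stY R hG t (g * x * n i)) = φ (stY R hG t g) := fun x hx => by
          rw [h2 x x.2 fun h5 => Finset.ne_of_mem_erase hx (Subtype.ext h5)]
        rw [Finset.sum_congr rfl h4, Finset.sum_const, Finset.card_erase_of_mem (Finset.mem_univ _),
          Finset.card_univ, nsmul_eq_mul, Nat.cast_sub Fintype.card_pos, hcard, Nat.cast_one]
    rw [h3, Tab.tau]
    split_ifs with h5
    · rfl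
    · have h6 : t.vec (stY R hG t g) i = 0 := by
        refine le_antisymm ?_ (not_lt.1 h5)
        rw [vec_stY]
        exact h0 j
      rw [Tab.st_eq_of_zero cs h t h6]
      ring

include hq in
theorem opW_stY (w : List I) (φ : Fin N → ℚ) :
    opW X n w (fun g => φ (stY R hG t g)) = fun g => t.tauW q w φ (stY R hG t g) := by
  induction w with
  | nil => rfl
  | cons i w ih =>
    rw [opW, LinearMap.comp_apply, ih, opT_stY R hG t q hq i (t.tauW q w φ)]
    rfl

include hq in
theorem opD_stY (D : List (List I)) (φ : Fin N → ℚ) :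
    opD X n D (fun g => φ (stY R hG t g)) = fun g => t.tauD q D φ (stY R hG t g) := by
  funext g
  rw [opD_apply, Tab.tauD]
  congr 1
  refine List.map_congr_left fun w _ => ?_
  rw [opW_stY R hG t q hq]

include hq in
theorem sum_opT [Fintype Y] (i : I) (F : Y → ℚ) : ∑ g, opT X n i F g = q i * ∑ g, F g := by
  classical
  have := Fintype.ofFinite (X (sr i))
  have hcard : (Fintype.card (X (sr i)) : ℚ) = q i := by rw [← hq, Nat.card_eq_fintype_card]
  have h1 : ∀ g, opT X n i F g = ∑ x : X (sr i), F (g * x * n i) := fun g => by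
    rw [opT_apply, finsum_eq_sum_of_fintype]
  rw [Finset.sum_congr rfl fun g _ => h1 g, Finset.sum_comm]
  have h2 : ∀ x : X (sr i), ∑ g, F (g * x * n i) = ∑ g, F g := fun x => by
    rw [← Equiv.sum_comp (Equiv.mulRight ((x : Y) * n i)) F]
    refine Finset.sum_congr rfl fun g _ => ?_
    rw [Equiv.coe_mulRight, mul_assoc]
  rw [Finset.sum_congr rfl fun x _ => h2 x, Finset.sum_const, Finset.card_univ, nsmul_eq_mul, hcard]

end Op

end Cfsg.Agent.H967.Sph
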