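import Cfsg.Agent.H967.Sph.Table
import Cfsg.Agent.Nodes.LeviDec

/-!
# The spherical machine: states of the elements of the Weyl group (helper967)

`lam cs h j w k = (w α_k)_j`; `sw t w`: the state of `w` in a table.
-/

set_option autoImplicit false
set_option linter.unusedSectionVars false

namespace Cfsg.Agent.H967.Sph

open CoxeterSystem Cfsg.Agent.ChevalleyStructure.CoxeterGeom Cfsg.Agent.Tits.Roots Cfsg.Agent.Tits.Core
  Cfsg.Agent.Tits.Exchange

variable {I W : Type*} [Fintype I] [DecidableEq I] [Group W] {M : CoxeterMatrix I}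
  (cs : CoxeterSystem M W) {A : I → I → ℤ} (h : IsCartan M A) {j : I} {N m : ℕ}

/-- The weight vector of `w`. -/
def lam (j : I) (w : W) (k : I) : ℤ := rep cs h w (sr k) j

theorem lam_one : lam cs h j 1 = Pi.single j 1 := by
  funext k
  rw [lam, map_one, Module.End.one_apply]
  by_cases hk : j = k
  · subst hk
    rw [sr_self, Pi.single_eq_same]
  · rw [sr_ne hk, Pi.single_eq_of_ne (Ne.symm hk)]

theorem lam_mul_simple (w : W) (i k : I) :
    lam cs h j (w * cs.simple i) k = lam cs h j w k - A i k * lam cs h j w i := by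
  rw [lam, rep_mul_apply, rep_simple_eq, map_sub, map_smul, Pi.sub_apply, Pi.smul_apply, smul_eq_mul, sr,
    pairing_single, mul_one]
  rfl

/-- left multiplication by `s_i`, `i ≠ j`, does not change the `j`-th coordinate -/
theorem rep_apply_of_mem {v : W} (hv : v ∈ WJ cs {i | i ≠ j}) (x : I → ℤ) : rep cs h v x j = x j := by
  obtain ⟨ω, hω, rfl⟩ := exists_word_of_mem_WJ cs hv
  clear hv
  induction ω with
  | nil => rw [wordProd_nil, map_one, Module.End.one_apply]
  | cons i ω ih =>
    rw [wordProd_cons, rep_mul_apply, rep_simple_apply cs h i _ j (Ne.symm (hω i (by simp)))]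
    exact ih fun k hk => hω k (by simp [hk])

theorem lam_mul_left {v : W} (hv : v ∈ WJ cs {i | i ≠ j}) (w : W) : lam cs h j (v * w) = lam cs h j w := by
  funext k
  rw [lam, rep_mul_apply, rep_apply_of_mem cs h hv]
  rfl

theorem eq_sum_sr (x : I → ℤ) : x = ∑ k, x k • sr k := by
  funext j
  simp [Finset.sum_apply, sr, Pi.single_apply]

/-- an element fixing the `j`-th coordinate functional lies in `W_J`, `J = {i | i ≠ j}` -/
theorem mem_WJ_of_fix : ∀ {u : W}, (∀ x, rep cs h u x j = x j) → u ∈ WJ cs {i | i ≠ j} := by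
  intro u
  induction hn : cs.length u using Nat.strong_induction_on generalizing u with
  | _ l ih =>
  intro hu
  by_cases hu1 : u = 1
  · rw [hu1]; exact one_mem _
  obtain ⟨i, hi⟩ := cs.exists_leftDescent_of_ne_one hu1
  have hi' : cs.length (cs.simple i * u) < cs.length u := hi
  have hij : i ≠ j := by
    rintro rfl
    have hneg : rep cs h u⁻¹ (sr i) ≤ 0 := by
      refine nonpos_of_lt cs h u⁻¹ i ?_
      rw [← cs.length_inv u, ← cs.length_inv (cs.simple i * u), mul_inv_rev, inv_simple] at hi'
      exact hi'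
    have h1 := hu (rep cs h u⁻¹ (sr i))
    rw [rep_apply_inv, sr_self] at h1
    have h2 := hneg i
    rw [← h1] at h2
    exact absurd (show (1 : ℤ) ≤ 0 from h2) (by decide)
  have h1 := ih (cs.length (cs.simple i * u)) (by omega) (u := cs.simple i * u) rfl (fun x => by
    rw [rep_mul_apply, rep_simple_apply cs h i _ j (Ne.symm hij), hu])
  have h2 : u = cs.simple i * (cs.simple i * u) := by rw [← mul_assoc, simple_mul_simple_self, one_mul]
  rw [h2]
  exact mul_mem (simple_mem_WJ cs hij) h1

theorem mem_WJ_of_lam {w w' : W} (he : lam cs h j w = lam cs h j w') : w' * w⁻¹ ∈ WJ cs {i | i ≠ j} := by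
  apply mem_WJ_of_fix cs h
  have h1 : ∀ y, rep cs h w' y j = rep cs h w y j := by
    intro y
    rw [eq_sum_sr y, map_sum, map_sum, Finset.sum_apply, Finset.sum_apply]
    refine Finset.sum_congr rfl fun k _ => ?_
    rw [map_smul, map_smul, Pi.smul_apply, Pi.smul_apply]
    congr 1
    exact (congrFun he k).symm
  intro x
  rw [rep_mul_apply, h1, rep_apply_inv]

namespace Tab

variable (t : Tab A j N m)

theorem exists_state (w : W) : ∃ s, t.vec s = lam cs h j w := by
  obtain ⟨ω, rfl⟩ := cs.wordProd_surjective w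
  induction ω using List.reverseRecOn with
  | nil => exact ⟨t.o, by rw [t.vec_o, wordProd_nil, lam_one]⟩
  | append_singleton ω i ih =>
    obtain ⟨s, hs⟩ := ih
    refine ⟨t.st i s, ?_⟩
    rw [wordProd_append, wordProd_singleton]
    funext k
    rw [t.vec_st, lam_mul_simple, hs]

/-- The state of `w`. -/
noncomputable def sw (w : W) : Fin N := (t.exists_state cs h w).choose

theorem vec_sw (w : W) : t.vec (t.sw cs h w) = lam cs h j w := (t.exists_state cs h w).choose_spec

theorem sw_eq {w : W} {s : Fin N} (hs : t.vec s = lam cs h j w) : t.sw cs h w = s :=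
  t.vec_inj _ _ (by rw [vec_sw, hs])

theorem sw_one : t.sw cs h 1 = t.o := t.sw_eq cs h (by rw [t.vec_o, lam_one])

theorem sw_mul_simple (w : W) (i : I) : t.sw cs h (w * cs.simple i) = t.st i (t.sw cs h w) := by
  apply t.sw_eq cs h
  funext k
  rw [t.vec_st, lam_mul_simple, vec_sw]

theorem sw_mul_left {v : W} (hv : v ∈ WJ cs {i | i ≠ j}) (w : W) : t.sw cs h (v * w) = t.sw cs h w :=
  t.sw_eq cs h (by rw [vec_sw, lam_mul_left cs h hv])

theorem mem_WJ_of_sw {w w' : W} (he : t.sw cs h w = t.sw cs h w') : w' * w⁻¹ ∈ WJ cs {i | i ≠ j} := by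
  apply mem_WJ_of_lam cs h
  rw [← vec_sw cs h t, ← vec_sw cs h t, he]

theorem sw_wordProd (w : W) (ω : List I) :
    t.sw cs h (w * cs.wordProd ω) = ω.foldl (fun b i => t.st i b) (t.sw cs h w) := by
  induction ω generalizing w with
  | nil => rw [wordProd_nil, mul_one, List.foldl_nil]
  | cons i ω ih => rw [wordProd_cons, ← mul_assoc, ih, List.foldl_cons, sw_mul_simple]

theorem exists_sw (s : Fin N) : ∃ w, t.sw cs h w = s :=
  ⟨cs.wordProd (t.path s), by rw [← one_mul (cs.wordProd _), sw_wordProd, sw_one, t.path_spec]⟩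

include cs h in
theorem st_st (i : I) (s : Fin N) : t.st i (t.st i s) = s := by
  obtain ⟨w, rfl⟩ := t.exists_sw cs h s
  rw [← sw_mul_simple, ← sw_mul_simple, simple_mul_simple_cancel_right]

include cs h in
theorem vec_st_self (i : I) (s : Fin N) : t.vec (t.st i s) i = - t.vec s i := by
  rw [t.vec_st, h.diag]; ring

include cs h in
theorem st_eq_of_zero {i : I} {s : Fin N} (h0 : t.vec s i = 0) : t.st i s = s :=
  t.vec_inj _ _ (by funext k; rw [t.vec_st, h0, mul_zero, sub_zero])

/-- states of the same class are reached from the representative by letters `≠ j` -/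
theorem exists_word {c : Fin m} {w : W} (hw : t.sw cs h w = t.crep c) {w' : W} (hc : t.cls (t.sw cs h w') = c) :
    ∃ v ∈ WJ cs {i | i ≠ j}, ∃ u ∈ WJ cs {i | i ≠ j}, w' = u * w * v := by
  have h1 := t.cpath_spec (t.sw cs h w')
  rw [hc, ← hw, ← sw_wordProd] at h1
  refine ⟨_, wordProd_mem_WJ cs (t.cpath_ne (t.sw cs h w')), _, t.mem_WJ_of_sw cs h h1, ?_⟩
  group

end Tab

end Cfsg.Agent.H967.Sph
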