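import Mathlib

/-!
# The spherical machine: combinatorial tables (helper967, T1a of task 838)

`Tab A j N m`: the orbit of the weight vector `e_j` under the Weyl group with Cartan matrix `A`, as a finite automaton
with `N` states; the classes of the states under the reflections `≠ j` are numbered by `Fin m`.
`tau`, `tauW`, `tauD`: the operators of the Iwahori-Hecke algebra on the functions of the state.
-/

set_option autoImplicit false

namespace Cfsg.Agent.H967.Sph

variable {I : Type*} [DecidableEq I]

/-- The states `vec s : I → ℤ` are the vectors `k ↦ (w α_k)_j`, `w ∈ W`; `o` is the state of `w = 1`; `st i` is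
right multiplication by `s_i`; `cls` numbers the classes under the `st i`, `i ≠ j`. -/
structure Tab (A : I → I → ℤ) (j : I) (N m : ℕ) where
  vec : Fin N → I → ℤ
  st : I → Fin N → Fin N
  cls : Fin N → Fin m
  o : Fin N
  vec_o : vec o = Pi.single j 1
  vec_inj : ∀ a b, vec a = vec b → a = b
  vec_st : ∀ i a k, vec (st i a) k = vec a k - A i k * vec a i
  path : Fin N → List I
  path_spec : ∀ a, (path a).foldl (fun b i => st i b) o = a
  cls_st : ∀ i, i ≠ j → ∀ a, cls (st i a) = cls a
  crep : Fin m → Fin N
  cpath : Fin N → List I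
  cpath_ne : ∀ a, ∀ i ∈ cpath a, i ≠ j
  cpath_spec : ∀ a, (cpath a).foldl (fun b i => st i b) (crep (cls a)) = a

namespace Tab

variable {A : I → I → ℤ} {j : I} {N m : ℕ} (t : Tab A j N m) (q : I → ℕ)

/-- The operator `T_i` on the functions of the state. -/
def tau (i : I) (φ : Fin N → ℚ) (s : Fin N) : ℚ :=
  if t.vec s i < 0 then φ (t.st i s) + ((q i : ℚ) - 1) * φ s else (q i : ℚ) * φ (t.st i s)

/-- The operator `T_{i₁} T_{i₂} ⋯` of a word `[i₁, i₂, …]`. -/
def tauW : List I → (Fin N → ℚ) → (Fin N → ℚ)
  | [], φ => φ
  | i :: w, φ => t.tau q i (tauW w φ)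

/-- The sum of the operators of the words in `D`. -/
def tauD (D : List (List I)) (φ : Fin N → ℚ) (s : Fin N) : ℚ := (D.map fun w => t.tauW q w φ s).sum

end Tab

end Cfsg.Agent.H967.Sph
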